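import Mathlib.RingTheory.Trace.Basic
import Mathlib.RingTheory.IsTensorProduct
import Mathlib.LinearAlgebra.Matrix.Trace
import Mathlib.RingTheory.Localization.Free
import Mathlib.RingTheory.Spectrum.Prime.FreeLocus
import Mathlib.LinearAlgebra.Matrix.Determinant.Basic

/-!
# The conjugation of a free quadratic algebra
-/

set_option autoImplicit false

universe u

open TensorProduct

namespace GrothLib.DblCov21

variable {R A : Type u} [CommRing R] [CommRing A] [Algebra R A]

/-- Twice the Cayley–Hamilton identity in rank two. -/
theorem sq_identity (b : Module.Basis (Fin 2) R A) (a : A) :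
    (a * a + a * a) - (algebraMap R A (Algebra.trace R A a) * a + algebraMap R A (Algebra.trace R A a) * a) +
      algebraMap R A (Algebra.trace R A a * Algebra.trace R A a - Algebra.trace R A (a * a)) = 0 := by
  apply Algebra.leftMulMatrix_injective b
  simp only [map_add, map_sub, map_mul, map_zero, AlgHom.commutes, Algebra.trace_eq_matrix_trace b]
  generalize Algebra.leftMulMatrix b a = M
  ext i j
  fin_cases i <;> fin_cases j <;>
    simp [Matrix.trace_fin_two, Matrix.mul_apply, Fin.sum_univ_two, Matrix.algebraMap_matrix_apply] <;>
    ring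

/-- The conjugation. -/
noncomputable def conj (b : Module.Basis (Fin 2) R A) (h2 : IsUnit (2 : A)) : A →ₐ[R] A where
  toFun a := algebraMap R A (Algebra.trace R A a) - a
  map_zero' := by simp
  map_one' := by
    rw [← map_one (algebraMap R A), Algebra.trace_algebraMap_of_basis b]
    simp only [Fintype.card_fin, two_smul, map_add, map_one]
    ring
  map_add' x y := by simp only [map_add]; ring
  map_mul' x y := by
    apply h2.mul_left_cancel
    have h1 := sq_identity b (x + y)
    have hx := sq_identity b x
    have hy := sq_identity b y
    have e : (x + y) * (x + y) = x * x + y * y + (x * y + x * y) := by ring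
    rw [e] at h1
    simp only [map_add, map_sub, map_mul] at h1 hx hy
    linear_combination hx + hy - h1
  commutes' r := by
    rw [Algebra.trace_algebraMap_of_basis b]
    simp only [Fintype.card_fin, two_smul, map_add]
    ring

theorem conj_apply (b : Module.Basis (Fin 2) R A) (h2 : IsUnit (2 : A)) (a : A) :
    conj b h2 a = algebraMap R A (Algebra.trace R A a) - a := rfl

theorem conj_conj (b : Module.Basis (Fin 2) R A) (h2 : IsUnit (2 : A)) (a : A) :
    conj b h2 (conj b h2 a) = a := by
  rw [conj_apply b h2 a, map_sub, AlgHom.commutes, conj_apply]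
  ring

theorem algebraMap_injective (b : Module.Basis (Fin 2) R A) (h2 : IsUnit (2 : R)) :
    Function.Injective (algebraMap R A) := fun r s h => by
  have := congrArg (Algebra.trace R A) h
  simp only [Algebra.trace_algebraMap_of_basis b, Fintype.card_fin, nsmul_eq_mul, Nat.cast_ofNat] at this
  exact h2.mul_left_cancel this

theorem mem_range_of_conj_eq (b : Module.Basis (Fin 2) R A) (h2 : IsUnit (2 : R)) (h2' : IsUnit (2 : A))
    {a : A} (h : conj b h2' a = a) : a ∈ Set.range (algebraMap R A) := by
  obtain ⟨v, hv⟩ := h2.exists_left_inv
  refine ⟨v * Algebra.trace R A a, ?_⟩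
  rw [conj_apply] at h
  have e : algebraMap R A (Algebra.trace R A a) = a + a := sub_eq_iff_eq_add.1 h
  have hv' : algebraMap R A v * 2 = 1 := by rw [← map_ofNat (algebraMap R A) 2, ← map_mul, hv, map_one]
  rw [map_mul, e]
  linear_combination a * hv'

variable {R' A' : Type u} [CommRing R'] [CommRing A'] [Algebra R' A'] [Algebra R R'] [Algebra A A']
  [Algebra R A'] [IsScalarTower R R' A'] [IsScalarTower R A A']

/-- A basis of a base change. -/
theorem exists_basis (b : Module.Basis (Fin 2) R A) [Algebra.IsPushout R R' A A'] :
    ∃ b' : Module.Basis (Fin 2) R' A', ∀ a : A,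
      Algebra.trace R' A' (algebraMap A A' a) = algebraMap R R' (Algebra.trace R A a) := by
  let e := Algebra.IsPushout.equiv R R' A A'
  have := Module.Free.of_basis b
  have := Module.Finite.of_basis b
  refine ⟨(b.baseChange R').map e.toLinearEquiv, fun a => ?_⟩
  have he : e ((1 : R') ⊗ₜ[R] a) = algebraMap A A' a := by
    rw [Algebra.IsPushout.equiv_tmul, map_one, one_mul]
  rw [← he, Algebra.trace_eq_of_algEquiv, Algebra.trace_apply, ← Algebra.baseChange_lmul,
    LinearMap.trace_baseChange]
  rfl

end GrothLib.DblCov21
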