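import Groth.Agent.Lib.DblCov21.Ring
import Groth.Agent.Lib.SGA1Quot21.Basic
import Groth.Agent.Lib.FEt21.Affine
import Mathlib.AlgebraicGeometry.Morphisms.FlatRank
import Mathlib.RingTheory.Localization.BaseChange
import Mathlib.Algebra.Category.Ring.Constructions
import Mathlib.AlgebraicGeometry.Morphisms.Flat

/-!
# The involution of a double cover
-/

set_option autoImplicit false
set_option backward.isDefEq.respectTransparency false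

universe u

open CategoryTheory CategoryTheory.Limits AlgebraicGeometry TopologicalSpace TensorProduct

namespace GrothLib.DblCov21

variable {X Y : Scheme.{u}} (f : X ⟶ Y) [IsFinite f] [Flat f] [LocallyOfFinitePresentation f]

/-- Affine opens over which the cover is free of rank two. -/
def IsFreeOn (U : Y.Opens) : Prop :=
  IsAffineOpen U ∧ (letI := (f.app U).hom.toAlgebra
    Nonempty (Module.Basis (Fin 2) Γ(Y, U) Γ(X, f ⁻¹ᵁ U)))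

omit [Flat f] [LocallyOfFinitePresentation f] in
theorem isPushout_restrict {U V : Y.Opens} (hU : IsAffineOpen U) (hV : IsAffineOpen V) (i : V ≤ U) :
    IsPushout (f.app U) (Y.presheaf.map (homOfLE i).op)
      (X.presheaf.map (homOfLE (f.preimage_mono i)).op) (f.app V) := by
  have hsq : IsPullback (𝟙 X) f f (𝟙 Y) := IsPullback.of_horiz_isIso ⟨by simp⟩
  have hle2 : f ⁻¹ᵁ V ≤ f ⁻¹ᵁ U := f.preimage_mono i
  have hUY : f ⁻¹ᵁ V = (𝟙 X : X ⟶ X) ⁻¹ᵁ (f ⁻¹ᵁ U) ⊓ f ⁻¹ᵁ V := (inf_eq_right.2 hle2).symm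
  have hle : V ≤ (𝟙 Y : Y ⟶ Y) ⁻¹ᵁ U := i
  have hpo := (isIso_pushoutSection_iff hsq hle (le_refl (f ⁻¹ᵁ U)) hUY).1
    (isIso_pushoutSection_of_isAffineOpen hsq hle (le_refl (f ⁻¹ᵁ U)) hUY hU hV (hU.preimage f))
  rw [Scheme.Hom.appLE_eq_app, Scheme.Hom.appLE_eq_app] at hpo
  simpa [Scheme.Hom.appLE] using hpo

omit [Flat f] [LocallyOfFinitePresentation f] in
theorem exists_basis_restrict {U V : Y.Opens} (hU : IsAffineOpen U) (hV : IsAffineOpen V) (i : V ≤ U) :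
    letI := (f.app U).hom.toAlgebra
    letI := (f.app V).hom.toAlgebra
    ∀ _ : Module.Basis (Fin 2) Γ(Y, U) Γ(X, f ⁻¹ᵁ U),
      ∃ _ : Module.Basis (Fin 2) Γ(Y, V) Γ(X, f ⁻¹ᵁ V), ∀ a : Γ(X, f ⁻¹ᵁ U),
        Algebra.trace Γ(Y, V) Γ(X, f ⁻¹ᵁ V) ((X.presheaf.map (homOfLE (f.preimage_mono i)).op).hom a) =
          (Y.presheaf.map (homOfLE i).op).hom (Algebra.trace Γ(Y, U) Γ(X, f ⁻¹ᵁ U) a) := by
  letI := (f.app U).hom.toAlgebra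
  letI := (f.app V).hom.toAlgebra
  intro b
  letI := (Y.presheaf.map (homOfLE i).op).hom.toAlgebra
  letI := (X.presheaf.map (homOfLE (f.preimage_mono i)).op).hom.toAlgebra
  letI := ((Y.presheaf.map (homOfLE i).op ≫ f.app V).hom).toAlgebra
  haveI : IsScalarTower Γ(Y, U) Γ(Y, V) Γ(X, f ⁻¹ᵁ V) := .of_algebraMap_eq' rfl
  have hpo := isPushout_restrict f hU hV i
  haveI : IsScalarTower Γ(Y, U) Γ(X, f ⁻¹ᵁ U) Γ(X, f ⁻¹ᵁ V) :=
    .of_algebraMap_eq' (congrArg CommRingCat.Hom.hom hpo.w.symm)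
  haveI : Algebra.IsPushout Γ(Y, U) Γ(Y, V) Γ(X, f ⁻¹ᵁ U) Γ(X, f ⁻¹ᵁ V) :=
    CommRingCat.isPushout_iff_isPushout.1 hpo.flip
  exact exists_basis (R' := Γ(Y, V)) (A' := Γ(X, f ⁻¹ᵁ V)) b

omit [Flat f] [LocallyOfFinitePresentation f] in
theorem isFreeOn_mono {U V : Y.Opens} (h : IsFreeOn f U) (hV : IsAffineOpen V) (i : V ≤ U) :
    IsFreeOn f V := by
  obtain ⟨hU, ⟨b⟩⟩ := h
  obtain ⟨b', -⟩ := exists_basis_restrict f hU hV i b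
  exact ⟨hV, ⟨b'⟩⟩

theorem exists_isFreeOn (hrk : ∀ y : Y, f.finrank y = 2) (W : Y.Opens) (y : Y) (hy : y ∈ W) :
    ∃ U : Y.Opens, IsFreeOn f U ∧ y ∈ U ∧ U ≤ W := by
  classical
  obtain ⟨_, ⟨U, hU, rfl⟩, hyU, hle⟩ := Y.isBasis_affineOpens.exists_subset_of_mem_open hy W.2
  letI : Algebra Γ(Y, U) Γ(X, f ⁻¹ᵁ U) := (f.app U).hom.toAlgebra
  haveI : Module.Finite Γ(Y, U) Γ(X, f ⁻¹ᵁ U) := f.finite_app U hU
  haveI : Module.Flat Γ(Y, U) Γ(X, f ⁻¹ᵁ U) := by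
    have := HasRingHomProperty.appLE @Flat f inferInstance ⟨U, hU⟩ ⟨_, hU.preimage f⟩ le_rfl
    rw [Scheme.Hom.appLE_eq_app] at this
    exact this
  haveI : Algebra.FinitePresentation Γ(Y, U) Γ(X, f ⁻¹ᵁ U) := by
    have := HasRingHomProperty.appLE @LocallyOfFinitePresentation f inferInstance ⟨U, hU⟩ ⟨_, hU.preimage f⟩ le_rfl
    rw [Scheme.Hom.appLE_eq_app] at this
    exact this
  haveI : Module.FinitePresentation Γ(Y, U) Γ(X, f ⁻¹ᵁ U) :=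
    (Module.FinitePresentation.iff_finitePresentation_of_finite Γ(Y, U) Γ(X, f ⁻¹ᵁ U)).2 ‹_›
  obtain ⟨p, hp⟩ : y ∈ Set.range hU.fromSpec := by rw [hU.range_fromSpec]; exact hyU
  have hr : Module.rankAtStalk Γ(X, f ⁻¹ᵁ U) p = 2 := by
    refine Eq.trans ?_ (hrk (hU.fromSpec p))
    rw [← Scheme.Hom.finrank_of_isPullback _ _ _ _ (GrothLib.FEt21.isPullback_app f hU) p]
    exact (Scheme.Hom.finrank_SpecMap_algebraMap Γ(Y, U) Γ(X, f ⁻¹ᵁ U) p).symm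
  haveI : Module.Free (Localization.AtPrime p.asIdeal) (LocalizedModule p.asIdeal.primeCompl Γ(X, f ⁻¹ᵁ U)) :=
    Module.free_of_flat_of_isLocalRing
  obtain ⟨r, hrp, hfree, hrank⟩ := Module.FinitePresentation.exists_free_localizedModule_powers
    p.asIdeal.primeCompl (LocalizedModule.mkLinearMap p.asIdeal.primeCompl Γ(X, f ⁻¹ᵁ U))
    (Localization.AtPrime p.asIdeal)
  haveI := hfree
  let V : Y.Opens := Y.basicOpen r
  have hV : IsAffineOpen V := hU.basicOpen r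
  have hVU : V ≤ U := Y.basicOpen_le r
  refine ⟨V, ⟨hV, ?_⟩, ?_, hVU.trans hle⟩
  swap
  · rw [← hp]
    have : p ∈ PrimeSpectrum.basicOpen r := hrp
    rw [← hU.fromSpec_preimage_basicOpen r] at this
    exact this
  haveI : IsLocalization.Away r Γ(Y, V) := hU.isLocalization_basicOpen r
  let Rr := Localization (Submonoid.powers r)
  haveI : Module.Finite Rr (LocalizedModule.Away r Γ(X, f ⁻¹ᵁ U)) :=
    Module.Finite.of_isLocalizedModule (Submonoid.powers r) (Rₚ := Rr)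
      (LocalizedModule.mkLinearMap (Submonoid.powers r) Γ(X, f ⁻¹ᵁ U))
  haveI : Nontrivial Rr :=
    (IsLocalization.map (M := Submonoid.powers r) (T := p.asIdeal.primeCompl)
      (Localization.AtPrime p.asIdeal) (RingHom.id _) (Submonoid.powers_le.mpr hrp) :
        Rr →+* Localization.AtPrime p.asIdeal).domain_nontrivial
  let b₀ : Module.Basis (Fin 2) Rr (LocalizedModule.Away r Γ(X, f ⁻¹ᵁ U)) :=
    Module.finBasisOfFinrankEq _ _ (hrank.trans hr)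
  let b₁ : Module.Basis (Fin 2) Rr (Rr ⊗[Γ(Y, U)] Γ(X, f ⁻¹ᵁ U)) :=
    b₀.map (LocalizedModule.equivTensorProduct (Submonoid.powers r) Γ(X, f ⁻¹ᵁ U))
  let e : Rr ≃ₐ[Γ(Y, U)] Γ(Y, V) := IsLocalization.algEquiv (Submonoid.powers r) Rr Γ(Y, V)
  letI : Algebra Rr Γ(Y, V) := (e : Rr →+* Γ(Y, V)).toAlgebra
  haveI : IsScalarTower Γ(Y, U) Rr Γ(Y, V) := .of_algebraMap_eq fun x => (e.commutes x).symm
  let b₂ : Module.Basis (Fin 2) Γ(Y, V) (Γ(Y, V) ⊗[Γ(Y, U)] Γ(X, f ⁻¹ᵁ U)) :=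
    (b₁.baseChange Γ(Y, V)).map
      (TensorProduct.AlgebraTensorModule.cancelBaseChange Γ(Y, U) Rr Γ(Y, V) Γ(Y, V) Γ(X, f ⁻¹ᵁ U))
  letI : Algebra Γ(X, f ⁻¹ᵁ U) Γ(X, f ⁻¹ᵁ V) := (X.presheaf.map (homOfLE (f.preimage_mono hVU)).op).hom.toAlgebra
  letI : Algebra Γ(Y, V) Γ(X, f ⁻¹ᵁ V) := (f.app V).hom.toAlgebra
  letI : Algebra Γ(Y, U) Γ(X, f ⁻¹ᵁ V) := ((Y.presheaf.map (homOfLE hVU).op ≫ f.app V).hom).toAlgebra
  haveI : IsScalarTower Γ(Y, U) Γ(Y, V) Γ(X, f ⁻¹ᵁ V) := .of_algebraMap_eq' rfl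
  have hpo := isPushout_restrict f hU hV hVU
  haveI : IsScalarTower Γ(Y, U) Γ(X, f ⁻¹ᵁ U) Γ(X, f ⁻¹ᵁ V) :=
    .of_algebraMap_eq' (congrArg CommRingCat.Hom.hom hpo.w.symm)
  haveI : Algebra.IsPushout Γ(Y, U) Γ(Y, V) Γ(X, f ⁻¹ᵁ U) Γ(X, f ⁻¹ᵁ V) :=
    CommRingCat.isPushout_iff_isPushout.1 hpo.flip
  exact ⟨b₂.map (Algebra.IsPushout.equiv Γ(Y, U) Γ(Y, V) Γ(X, f ⁻¹ᵁ U) Γ(X, f ⁻¹ᵁ V)).toLinearEquiv⟩

omit [IsFinite f] [Flat f] [LocallyOfFinitePresentation f] in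
theorem isUnit_two (h2 : IsUnit (2 : Γ(Y, ⊤))) (U : Y.Opens) :
    IsUnit (2 : Γ(Y, U)) ∧ IsUnit (2 : Γ(X, f ⁻¹ᵁ U)) := by
  have h : IsUnit (2 : Γ(Y, U)) := by
    have := h2.map (Y.presheaf.map (homOfLE (le_top (a := U))).op).hom
    rwa [map_ofNat] at this
  refine ⟨h, ?_⟩
  have := h.map (f.app U).hom
  rwa [map_ofNat] at this

theorem exists_involution (hrk : ∀ y : Y, f.finrank y = 2) (h2 : IsUnit (2 : Γ(Y, ⊤))) :
    ∃ σ : Aut X, σ.hom ≫ f = f ∧ σ * σ = 1 ∧ SGA1.IsQuot (Subgroup.zpowers σ).subtype f := by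
  classical
  let ι := {U : Y.Opens // IsFreeOn f U}
  have hbasis : ∀ U : ι, (letI := (f.app U.1).hom.toAlgebra
      Nonempty (Module.Basis (Fin 2) Γ(Y, U.1) Γ(X, f ⁻¹ᵁ U.1))) := fun U => U.2.2
  let σr : ∀ U : ι, Γ(X, f ⁻¹ᵁ U.1) ⟶ Γ(X, f ⁻¹ᵁ U.1) := fun U =>
    letI := (f.app U.1).hom.toAlgebra
    CommRingCat.ofHom (conj (hbasis U).some (isUnit_two f h2 U.1).2).toRingHom
  have hσapp : ∀ U : ι, f.app U.1 ≫ σr U = f.app U.1 := fun U => by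
    letI := (f.app U.1).hom.toAlgebra
    ext r
    exact (conj (hbasis U).some (isUnit_two f h2 U.1).2).commutes r
  have hσσ : ∀ U : ι, σr U ≫ σr U = 𝟙 _ := fun U => by
    letI := (f.app U.1).hom.toAlgebra
    ext a
    exact conj_conj (hbasis U).some (isUnit_two f h2 U.1).2 a
  have hσres : ∀ (U V : ι) (i : V.1 ≤ U.1),
      X.presheaf.map (homOfLE (f.preimage_mono i)).op ≫ σr V =
        σr U ≫ X.presheaf.map (homOfLE (f.preimage_mono i)).op := by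
    intro U V i
    letI := (f.app U.1).hom.toAlgebra
    letI := (f.app V.1).hom.toAlgebra
    obtain ⟨b', hb'⟩ := exists_basis_restrict f U.2.1 V.2.1 i (hbasis U).some
    ext a
    show algebraMap Γ(Y, V.1) Γ(X, f ⁻¹ᵁ V.1) (Algebra.trace Γ(Y, V.1) Γ(X, f ⁻¹ᵁ V.1) _) - _ =
      (X.presheaf.map (homOfLE (f.preimage_mono i)).op).hom (algebraMap _ _ (Algebra.trace _ _ a) - a)
    refine Eq.trans (congrArg (fun t => algebraMap Γ(Y, V.1) Γ(X, f ⁻¹ᵁ V.1) t - _) (hb' a)) ?_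
    rw [map_sub]
    congr 1
    exact congrArg (fun m => (CommRingCat.Hom.hom m) (Algebra.trace Γ(Y, U.1) Γ(X, f ⁻¹ᵁ U.1) a))
      (f.naturality (homOfLE i).op)
  let m : ∀ U : ι, (f ⁻¹ᵁ U.1).toScheme ⟶ X := fun U =>
    (f ⁻¹ᵁ U.1).toSpecΓ ≫ Spec.map (σr U) ≫ (U.2.1.preimage f).fromSpec
  have hm : ∀ (U V : ι) (i : V.1 ≤ U.1), X.homOfLE (f.preimage_mono i) ≫ m U = m V := fun U V i => by
    show X.homOfLE (f.preimage_mono i) ≫ (f ⁻¹ᵁ U.1).toSpecΓ ≫ _ = _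
    rw [← Scheme.Opens.toSpecΓ_SpecMap_presheaf_map_assoc _ _ (f.preimage_mono i),
      ← Spec.map_comp_assoc, ← hσres U V i, Spec.map_comp_assoc, IsAffineOpen.map_fromSpec]
  have hcovι : ∀ (W : Y.Opens) (y : Y), y ∈ W → ∃ U : ι, y ∈ U.1 ∧ U.1 ≤ W := fun W y hy => by
    obtain ⟨U, hU, hyU, hle⟩ := exists_isFreeOn f hrk W y hy
    exact ⟨⟨U, hU⟩, hyU, hle⟩
  let 𝒰 := X.openCoverOfIsOpenCover (fun U : ι => f ⁻¹ᵁ U.1) (top_le_iff.1 fun x _ => by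
    obtain ⟨U, hxU, -⟩ := hcovι ⊤ (f x) trivial
    exact Opens.mem_iSup.2 ⟨U, hxU⟩)
  have H : ∀ U V : ι, pullback.fst (f ⁻¹ᵁ U.1).ι (f ⁻¹ᵁ V.1).ι ≫ m U = pullback.snd _ _ ≫ m V := by
    intro U V
    refine Scheme.hom_ext_of_forall _ _ fun p => ?_
    let P := pullback (f ⁻¹ᵁ U.1).ι (f ⁻¹ᵁ V.1).ι
    let a : P ⟶ X := pullback.fst _ _ ≫ (f ⁻¹ᵁ U.1).ι
    have ha : a = pullback.snd _ _ ≫ (f ⁻¹ᵁ V.1).ι := pullback.condition
    have hpU : f (a p) ∈ U.1 := ((pullback.fst (f ⁻¹ᵁ U.1).ι (f ⁻¹ᵁ V.1).ι) p).2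
    have hpV : f (a p) ∈ V.1 := by
      rw [ha]; exact ((pullback.snd (f ⁻¹ᵁ U.1).ι (f ⁻¹ᵁ V.1).ι) p).2
    obtain ⟨O, hxO, hle⟩ := hcovι (U.1 ⊓ V.1) (f (a p)) ⟨hpU, hpV⟩
    refine ⟨a ⁻¹ᵁ (f ⁻¹ᵁ O.1), hxO, ?_⟩
    have e1 : (a ∣_ (f ⁻¹ᵁ O.1)) ≫ X.homOfLE (f.preimage_mono (hle.trans inf_le_left)) =
        (a ⁻¹ᵁ (f ⁻¹ᵁ O.1)).ι ≫ pullback.fst _ _ := by
      rw [← cancel_mono (f ⁻¹ᵁ U.1).ι, Category.assoc, Category.assoc, Scheme.homOfLE_ι,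
        morphismRestrict_ι]
    have e2 : (a ∣_ (f ⁻¹ᵁ O.1)) ≫ X.homOfLE (f.preimage_mono (hle.trans inf_le_right)) =
        (a ⁻¹ᵁ (f ⁻¹ᵁ O.1)).ι ≫ pullback.snd _ _ := by
      rw [← cancel_mono (f ⁻¹ᵁ V.1).ι, Category.assoc, Category.assoc, Scheme.homOfLE_ι,
        morphismRestrict_ι, ha]
    rw [← reassoc_of% e1, ← reassoc_of% e2, hm U O (hle.trans inf_le_left), hm V O (hle.trans inf_le_right)]
  let h : X ⟶ X := 𝒰.glueMorphisms m H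
  have hι : ∀ U : ι, (f ⁻¹ᵁ U.1).ι ≫ h = m U := fun U => 𝒰.ι_glueMorphisms m H U
  have hf : h ≫ f = f := by
    refine Scheme.Cover.hom_ext 𝒰 _ _ fun U => ?_
    show (f ⁻¹ᵁ U.1).ι ≫ h ≫ f = (f ⁻¹ᵁ U.1).ι ≫ f
    rw [← Category.assoc, hι U]
    simp only [m, Category.assoc]
    rw [← IsAffineOpen.SpecMap_appLE_fromSpec f U.2.1 (U.2.1.preimage f) le_rfl, ← Spec.map_comp_assoc,
      ← Scheme.Hom.app_eq_appLE, hσapp U, Scheme.Opens.toSpecΓ_naturality_assoc,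
      IsAffineOpen.toSpecΓ_fromSpec, morphismRestrict_ι]
  have happ : ∀ (U : ι) (e : f ⁻¹ᵁ U.1 ≤ h ⁻¹ᵁ (f ⁻¹ᵁ U.1)),
      h.appLE (f ⁻¹ᵁ U.1) (f ⁻¹ᵁ U.1) e = σr U := by
    intro U e
    have h1 : (f ⁻¹ᵁ U.1).toSpecΓ ≫ Spec.map (h.appLE (f ⁻¹ᵁ U.1) (f ⁻¹ᵁ U.1) e) ≫
        (U.2.1.preimage f).fromSpec = m U := by
      rw [Scheme.Opens.toSpecΓ_SpecMap_appLE_assoc, IsAffineOpen.toSpecΓ_fromSpec,
        Scheme.Hom.resLE_comp_ι, hι U]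
    haveI : IsIso (f ⁻¹ᵁ U.1).toSpecΓ := by
      rw [← IsAffineOpen.isoSpec_hom (U.2.1.preimage f)]; infer_instance
    exact Spec.map_injective ((cancel_mono (U.2.1.preimage f).fromSpec).1
      ((cancel_epi (f ⁻¹ᵁ U.1).toSpecΓ).1 h1))
  have hh : h ≫ h = 𝟙 X := by
    refine Scheme.Cover.hom_ext 𝒰 _ _ fun U => ?_
    show (f ⁻¹ᵁ U.1).ι ≫ h ≫ h = (f ⁻¹ᵁ U.1).ι ≫ 𝟙 X
    rw [Category.comp_id, ← Category.assoc, hι U]
    simp only [m, Category.assoc]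
    have e : f ⁻¹ᵁ U.1 ≤ h ⁻¹ᵁ (f ⁻¹ᵁ U.1) := by rw [← Scheme.Hom.comp_preimage, hf]
    rw [← IsAffineOpen.SpecMap_appLE_fromSpec h (U.2.1.preimage f) (U.2.1.preimage f) e,
      ← Spec.map_comp_assoc, happ U e, hσσ U, Spec.map_id, Category.id_comp,
      IsAffineOpen.toSpecΓ_fromSpec]
  let σ : Aut X := ⟨h, h, hh, hh⟩
  have hinv : ∀ g : Subgroup.zpowers σ, ((Subgroup.zpowers σ).subtype g).hom ≫ f = f := by
    rintro ⟨g, n, rfl⟩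
    show (σ ^ n).hom ≫ f = f
    induction n with
    | zero => rw [zpow_zero]; exact Category.id_comp f
    | succ n ih =>
      rw [zpow_add_one]
      show (h ≫ (σ ^ (n : ℤ)).hom) ≫ f = f
      rw [Category.assoc, ih, hf]
    | pred n ih =>
      rw [zpow_sub_one]
      show (h ≫ (σ ^ (-(n : ℤ))).hom) ≫ f = f
      rw [Category.assoc, ih, hf]
  refine ⟨σ, hf, Iso.ext hh, GrothLib.SGA1Quot21.isQuot_of_basis _ f hinv (IsFreeOn f)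
    (fun U y hy => ?_) (fun U hU => ?_) fun U hU s hs => ?_⟩
  · obtain ⟨V, hV, hyV, hle⟩ := exists_isFreeOn f hrk U y hy
    exact ⟨V, hV, hyV, hle⟩
  · letI := (f.app U).hom.toAlgebra
    obtain ⟨b⟩ := hU.2
    exact algebraMap_injective b (isUnit_two f h2 U).1
  · letI := (f.app U).hom.toAlgebra
    refine mem_range_of_conj_eq (hbasis ⟨U, hU⟩).some (isUnit_two f h2 U).1 (isUnit_two f h2 U).2 ?_
    have h1 := hs ⟨σ, Subgroup.mem_zpowers σ⟩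
    have e : f ⁻¹ᵁ U ≤ h ⁻¹ᵁ (f ⁻¹ᵁ U) := by rw [← Scheme.Hom.comp_preimage, hf]
    exact (congrArg (fun t => (CommRingCat.Hom.hom t) s) (happ ⟨U, hU⟩ e)).symm.trans h1

end GrothLib.DblCov21
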